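import Groth.Agent.Neutral.DimConst
import Groth.Agent.Neutral.Open
import Groth.Agent.DomLib.ProConsClosure

/-!
The points of a group scheme some power of which lies in a neutral component.
-/

set_option autoImplicit false
set_option backward.isDefEq.respectTransparency false
set_option backward.isDefEq.respectTransparency.types false
set_option linter.style.haveILetI false

universe u

open CategoryTheory CategoryTheory.Limits MonoidalCategory CartesianMonoidalCategory MonObj GrpObj AlgebraicGeometry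
open SGA3x

noncomputable section

namespace Groth.Agent.TorSet

section Field

variable {K : Type u} [Field K] (G : Over (Spec (CommRingCat.of K))) [GrpObj G]

abbrev basePt : ↥(𝟙_ (Over (Spec (CommRingCat.of K)))).left := IsLocalRing.closedPoint K

/-- The rational points in the connected component of the unit. -/
def idPts : Subgroup (𝟙_ (Over (Spec (CommRingCat.of K))) ⟶ G) where
  carrier := {a | a.left (basePt (K := K)) ∈ connectedComponent (η[G].left (basePt (K := K)))}
  one_mem' := by
    rw [Set.mem_setOf_eq, show (1 : 𝟙_ (Over (Spec (CommRingCat.of K))) ⟶ G) = η[G] by simp [Hom.one_def]]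
    exact mem_connectedComponent
  mul_mem' {a b} ha hb := Neutral.mul_mem_connectedComponent a b _ ha hb
  inv_mem' {a} ha := Neutral.inv_mem_connectedComponent a _ ha

variable {G}

theorem mem_idPts_iff (a : 𝟙_ (Over (Spec (CommRingCat.of K))) ⟶ G) :
    a ∈ idPts G ↔ a.left (basePt (K := K)) ∈ neutralSet G := by
  rw [Neutral.neutralSet_field]
  rfl

/-- Points whose powers stay in a quasi-compact open set are torsion modulo the neutral component. -/
theorem exists_pow_mem_idPts [LocallyOfFiniteType G.hom] (a : 𝟙_ (Over (Spec (CommRingCat.of K))) ⟶ G)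
    (U : G.left.Opens) (hU : IsCompact (U : Set G.left)) (h : ∀ m : ℕ, (a ^ m).left (basePt (K := K)) ∈ U) :
    ∃ n : ℕ, 0 < n ∧ a ^ n ∈ idPts G := by
  haveI : IsLocallyNoetherian G.left := LocallyOfFiniteType.isLocallyNoetherian G.hom
  haveI : CompactSpace ↥(U : Scheme) := isCompact_iff_compactSpace.mp hU
  haveI : IsNoetherian (U : Scheme) := { }
  let f : ℕ → Set ↥(U : Scheme) := fun m =>
    irreducibleComponent (⟨(a ^ m).left (basePt (K := K)), h m⟩ : ↥(U : Scheme))
  obtain ⟨m, k, hmk, hf⟩ := Set.Finite.exists_lt_map_eq_of_forall_mem (f := f)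
    (t := irreducibleComponents ↥(U : Scheme)) (fun m => irreducibleComponent_mem_irreducibleComponents _)
    TopologicalSpace.NoetherianSpace.finite_irreducibleComponents
  refine ⟨k - m, by omega, ?_⟩
  let τ : G ⟶ G := (toUnit G ≫ (a ^ m)⁻¹) * 𝟙 G
  have hτ : ∀ c : 𝟙_ (Over (Spec (CommRingCat.of K))) ⟶ G,
      τ.left (c.left (basePt (K := K))) = ((a ^ m)⁻¹ * c).left (basePt (K := K)) := fun c => by
    have h : c ≫ τ = (a ^ m)⁻¹ * c := by
      rw [MonObj.comp_mul, Category.comp_id, ← Category.assoc, toUnit_unique (c ≫ toUnit G) (𝟙 _), Category.id_comp]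
    rw [← h]; rfl
  have hC : _root_.IsPreconnected (τ.left '' (U.ι '' f m)) :=
    ((isIrreducible_irreducibleComponent.isConnected.isPreconnected.image U.ι U.ι.continuous.continuousOn).image
      τ.left τ.left.continuous.continuousOn)
  have h1 : η[G].left (basePt (K := K)) ∈ τ.left '' (U.ι '' f m) := by
    refine ⟨(a ^ m).left (basePt (K := K)), ⟨_, mem_irreducibleComponent, rfl⟩, ?_⟩
    rw [hτ, inv_mul_cancel, show (1 : 𝟙_ (Over (Spec (CommRingCat.of K))) ⟶ G) = η[G] by simp [Hom.one_def]]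
  refine hC.subset_connectedComponent h1 ⟨(a ^ k).left (basePt (K := K)), ⟨⟨_, h k⟩, ?_, rfl⟩, ?_⟩
  · show _ ∈ f m
    rw [hf]
    exact mem_irreducibleComponent
  · rw [hτ]
    rw [show (a ^ m)⁻¹ * a ^ k = a ^ (k - m) by
      rw [inv_mul_eq_iff_eq_mul, ← pow_add, show m + (k - m) = k by omega]]

end Field

variable {S : Scheme.{u}} (G : Over S) [GrpObj G]

/-- The underlying map of the `n`-th power. -/
def pw (n : ℕ) (x : G.left) : G.left := ((𝟙 G : G ⟶ G) ^ n).left x

theorem comp_pow_id {T : Over S} (a : T ⟶ G) (n : ℕ) : a ≫ (𝟙 G : G ⟶ G) ^ n = a ^ n := by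
  induction n with
  | zero => rw [pow_zero, pow_zero, MonObj.comp_one]
  | succ n ih => rw [pow_succ, pow_succ, MonObj.comp_mul, ih, Category.comp_id]

theorem pw_pw (m n : ℕ) (x : G.left) : pw G m (pw G n x) = pw G (n * m) x := by
  show (((𝟙 G : G ⟶ G) ^ n) ≫ ((𝟙 G : G ⟶ G) ^ m)).left x = _
  rw [comp_pow_id, ← pow_mul]
  rfl

theorem hom_pw (n : ℕ) (x : G.left) : G.hom (pw G n x) = G.hom x :=
  congrArg (fun m => m x) (Over.w ((𝟙 G : G ⟶ G) ^ n))

variable (x : G.left)

/-- The base point of a point. -/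
def ptBase : Spec (CommRingCat.of (G.left.residueField x)) ⟶ S := G.left.fromSpecResidueField x ≫ G.hom

/-- A point as a rational point of the group over its residue field. -/
def pt : 𝟙_ (Over (Spec (CommRingCat.of (G.left.residueField x)))) ⟶ Red.bc (ptBase G x) G :=
  Over.homMk (pullback.lift (G.left.fromSpecResidueField x) (𝟙 _) (by rw [Category.id_comp]; rfl))
    (pullback.lift_snd _ _ _)

theorem fst_pt_pow (n : ℕ) :
    pullback.fst G.hom (ptBase G x) ((pt G x ^ n).left (basePt (K := G.left.residueField x))) = pw G n x := by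
  have h1 : (Over.pullback (ptBase G x)).map ((𝟙 G : G ⟶ G) ^ n) =
      (𝟙 (Red.bc (ptBase G x) G)) ^ n := by
    induction n with
    | zero => rw [pow_zero, pow_zero, Functor.map_one]
    | succ n ih => rw [pow_succ, pow_succ, Functor.map_mul, ih, CategoryTheory.Functor.map_id]
  have h : (pt G x ≫ (Over.pullback (ptBase G x)).map ((𝟙 G : G ⟶ G) ^ n)).left ≫ pullback.fst G.hom (ptBase G x) =
      G.left.fromSpecResidueField x ≫ ((𝟙 G : G ⟶ G) ^ n).left := by
    simp [pt]
  rw [← comp_pow_id, ← h1]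
  exact (congrArg (fun m => m (basePt (K := G.left.residueField x))) h).trans
    (congrArg (((𝟙 G : G ⟶ G) ^ n).left) (Scheme.fromSpecResidueField_apply x _))

/-- The order of a point modulo the neutral components; zero if infinite. -/
def ord : ℕ :=
  MulAction.period (pt G x)
    (QuotientGroup.mk 1 : (𝟙_ (Over (Spec (CommRingCat.of (G.left.residueField x)))) ⟶ Red.bc (ptBase G x) G) ⧸
      idPts (Red.bc (ptBase G x) G))

theorem pw_mem_iff (n : ℕ) : pw G n x ∈ neutralSet G ↔ ord G x ∣ n := by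
  rw [ord, ← MulAction.pow_smul_eq_iff_period_dvd, MulAction.Quotient.smul_mk, smul_eq_mul, _root_.mul_one,
    QuotientGroup.eq, _root_.mul_one, inv_mem_iff, mem_idPts_iff, Neutral.neutralSet_bc, Set.mem_preimage, fst_pt_pow]

theorem pw_mem_iff' (n : ℕ) : ((𝟙 G : G ⟶ G) ^ n).left.base x ∈ neutralSet G ↔ ord G x ∣ n := pw_mem_iff G x n

theorem ord_ne_zero_iff : ord G x ≠ 0 ↔ ∃ n, 0 < n ∧ pw G n x ∈ neutralSet G := by
  refine ⟨fun h => ⟨ord G x, Nat.pos_of_ne_zero h, (pw_mem_iff G x _).2 dvd_rfl⟩, ?_⟩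
  rintro ⟨n, hn, hx⟩ h
  rw [pw_mem_iff, h, zero_dvd_iff] at hx
  omega

theorem ord_pw_dvd_iff (n m : ℕ) : ord G (pw G n x) ∣ m ↔ ord G x ∣ n * m := by
  rw [← pw_mem_iff, pw_pw, pw_mem_iff]

/-- The points which are torsion modulo the neutral components. -/
def torSet : Set G.left := {x | ord G x ≠ 0}

theorem mem_torSet : x ∈ torSet G ↔ ord G x ≠ 0 := Iff.rfl

theorem setOf_exists_eq :
    {x : ↥G.left | ∃ n : ℕ, 0 < n ∧ ((𝟙 G : G ⟶ G) ^ n).left.base x ∈ neutralSet G} = torSet G :=
  Set.ext fun x => (ord_ne_zero_iff G x).symm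

variable {G} {x}

/-- The part of a neutral component in a fibre is quasi-compact. -/
theorem isCompact_neutralSet_fibre [LocallyOfFiniteType G.hom] (s : S) :
    IsCompact (neutralSet G ∩ G.hom ⁻¹' {s}) := by
  have h := Neutral.image_fibre_neutralSet (G := G) s Set.univ
  rw [Set.preimage_univ, Set.univ_inter, Set.univ_inter] at h
  rw [← h]
  refine IsCompact.image ?_ (Scheme.Hom.continuous _)
  rw [Neutral.neutralSet_field, GrpSchLib.connectedComponent_eq]
  have := @CompactSpace.isCompact_univ _ _ (GrpSchLib.compactSpace_idObj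
    (G := Red.bc (S.fromSpecResidueField s) G))
  have := this.image (GrpSchLib.idIncl (Red.bc (S.fromSpecResidueField s) G)).left.continuous
  rwa [Set.image_univ, GrpSchLib.range_idIncl] at this

/-- Generisations of points of neutral components are torsion. -/
theorem ord_ne_zero_of_specializes [LocallyOfFiniteType G.hom] {z w : G.left} (h : z ⤳ w)
    (hw : w ∈ neutralSet G) : ord G z ≠ 0 := by
  obtain ⟨U, hUc, hUsub⟩ : ∃ U : G.left.Opens, IsCompact (U : Set G.left) ∧
      neutralSet G ∩ G.hom ⁻¹' {G.hom w} ⊆ U := by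
    have : ∀ v : G.left, ∃ V : G.left.Opens, IsAffineOpen V ∧ v ∈ V := fun v =>
      (exists_isAffineOpen_mem_and_subset (U := (⊤ : G.left.Opens)) (x := v) trivial).imp fun V hV => ⟨hV.1, hV.2.1⟩
    choose V hV hvV using this
    obtain ⟨σ, hσ⟩ := (isCompact_neutralSet_fibre (G := G) (G.hom w)).elim_finite_subcover (fun v => (V v : Set G.left))
      (fun v => (V v).2) fun v _ => Set.mem_iUnion.2 ⟨v, hvV v⟩
    exact ⟨⟨⋃ v ∈ σ, (V v : Set G.left), isOpen_biUnion fun v _ => (V v).2⟩,
      σ.finite_toSet.isCompact_biUnion fun v _ => (hV v).isCompact, hσ⟩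
  have hmem : ∀ m, pw G m z ∈ U := fun m => by
    refine (h.map ((𝟙 G : G ⟶ G) ^ m).left.continuous).mem_open U.2 (hUsub ⟨?_, hom_pw G m w⟩)
    show pw G m w ∈ _
    have h1 := (pw_mem_iff G w 1).1 (by rwa [pw, pow_one])
    exact (pw_mem_iff G w m).2 (h1.trans (one_dvd m))
  haveI : QuasiCompact (pullback.fst G.hom (ptBase G z)) := by
    haveI : QuasiCompact (ptBase G z) := (quasiCompact_iff _).2 fun V _ _ => by
      haveI : Subsingleton ↥(Spec (CommRingCat.of (G.left.residueField z))) :=
        inferInstanceAs (Subsingleton (PrimeSpectrum _))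
      exact (Set.subsingleton_of_subsingleton.finite).isCompact
    infer_instance
  haveI : LocallyOfFiniteType (Red.bc (ptBase G z) G).hom :=
    MorphismProperty.pullback_snd (P := @LocallyOfFiniteType) _ _ ‹_›
  obtain ⟨n, hn, hmemn⟩ := exists_pow_mem_idPts (pt G z) (pullback.fst G.hom (ptBase G z) ⁻¹ᵁ U)
    ((pullback.fst G.hom (ptBase G z)).isCompact_preimage hUc)
    fun m => show pullback.fst G.hom (ptBase G z) _ ∈ U from (fst_pt_pow G z m).symm ▸ hmem m
  refine (ord_ne_zero_iff G z).2 ⟨n, hn, ?_⟩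
  rw [mem_idPts_iff, Neutral.neutralSet_bc, Set.mem_preimage, fst_pt_pow] at hmemn
  exact hmemn

theorem stableUnderGeneralization_torSet [LocallyOfFiniteType G.hom] :
    StableUnderGeneralization (torSet G) := by
  intro y z hzy hy
  obtain ⟨n, hn, hyn⟩ := (ord_ne_zero_iff G y).1 hy
  obtain ⟨m, hm, hzm⟩ := (ord_ne_zero_iff G (pw G n z)).1
    (ord_ne_zero_of_specializes (hzy.map ((𝟙 G : G ⟶ G) ^ n).left.continuous) hyn)
  rw [pw_pw] at hzm
  exact (ord_ne_zero_iff G z).2 ⟨n * m, Nat.mul_pos hn hm, hzm⟩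

theorem isIndConstructible_iUnion {X : Scheme.{u}} {J : Sort*} {E : J → Set X}
    (h : ∀ i, ProCons.IsIndConstructible (E i)) : ProCons.IsIndConstructible (⋃ i, E i) := by
  rw [ProConsLib.isIndConstructible_iff]
  intro U hU
  rw [Set.preimage_iUnion]
  exact @isOpen_iUnion (U : Set X) _ (constructibleTopology _) _
    fun i => (ProConsLib.isIndConstructible_iff _).1 (h i) U hU

theorem isOpen_of_isIndConstructible {X : Scheme.{u}} {E : Set X} (hE : ProCons.IsIndConstructible E)
    (hg : StableUnderGeneralization E) : IsOpen E := by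
  rw [← isClosed_compl_iff]
  refine isClosed_of_closure_subset fun y hy hyE => ?_
  obtain ⟨z, hz, hzy⟩ := DomLib.exists_specializes_of_mem_closure (ProConsLib.isIndConstructible_iff_compl.1 hE) hy
  exact hz (hg hzy hyE)

theorem isIndConstructible_pw [IsLocallyNoetherian S] [LocallyOfFiniteType G.hom] (n : ℕ) :
    ProCons.IsIndConstructible (pw G n ⁻¹' neutralSet G) := by
  haveI : LocallyOfFinitePresentation G.hom := inferInstance
  exact ProConsLib.isIndConstructible_preimage ((𝟙 G : G ⟶ G) ^ n).left (Neutral.isIndConstructible_neutralSet G)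

theorem torSet_eq_iUnion : torSet G = ⋃ n : ℕ, pw G (n + 1) ⁻¹' neutralSet G := by
  ext y
  rw [mem_torSet, ord_ne_zero_iff, Set.mem_iUnion]
  constructor
  · rintro ⟨n, hn, h⟩
    obtain ⟨k, rfl⟩ : ∃ k, n = k + 1 := ⟨n - 1, by omega⟩
    exact ⟨k, h⟩
  · rintro ⟨n, h⟩
    exact ⟨n + 1, n.succ_pos, h⟩

theorem isOpen_torSet [IsLocallyNoetherian S] [LocallyOfFiniteType G.hom] : IsOpen (torSet G) :=
  isOpen_of_isIndConstructible (torSet_eq_iUnion (G := G) ▸ isIndConstructible_iUnion fun _ => isIndConstructible_pw _)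
    stableUnderGeneralization_torSet

/-- The orders are bounded on quasi-compact sets of torsion points. -/
theorem exists_ord_dvd [IsLocallyNoetherian S] [LocallyOfFiniteType G.hom] {W : G.left.Opens}
    (hW : IsCompact (W : Set G.left)) (hWT : (W : Set G.left) ⊆ torSet G) :
    ∃ N : ℕ, 0 < N ∧ ∀ y ∈ W, ord G y ∣ N := by
  haveI : CompactSpace ↥(W : Scheme) := isCompact_iff_compactSpace.mp hW
  let F : ℕ → Set ↥(W : Scheme.{u}) := fun n => W.ι.base ⁻¹' (pw G (n + 1) ⁻¹' neutralSet G)ᶜ
  have hF : ∀ n, ProCons.IsProConstructible (F n) := fun n =>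
    ProConsLib.isProConstructible_preimage W.ι
      (T := (pw G (n + 1) ⁻¹' neutralSet G)ᶜ)
      (ProConsLib.isIndConstructible_iff_compl.1 (isIndConstructible_pw n.succ))
  have h0 : ⋂ n, F n = ∅ := Set.eq_empty_iff_forall_notMem.2 fun y hy => by
    have h : (y.1 : G.left) ∈ torSet G := hWT y.2
    rw [torSet_eq_iUnion, Set.mem_iUnion] at h
    obtain ⟨n, hn⟩ := h
    exact Set.mem_iInter.1 hy n hn
  obtain ⟨J, hJ⟩ := ProConsLib.exists_finset_iInter_eq_empty F hF h0
  refine ⟨∏ n ∈ J, (n + 1), Finset.prod_pos fun n _ => n.succ_pos, fun y hy => ?_⟩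
  by_contra hd
  refine Set.eq_empty_iff_forall_notMem.1 hJ ⟨y, hy⟩ (Set.mem_iInter₂.2 fun n hn => ?_)
  exact fun h => hd (((pw_mem_iff G y (n + 1)).1 h).trans (Finset.dvd_prod_of_mem _ hn))

end Groth.Agent.TorSet

end
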