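import Groth.Agent.TorSet.Basic
import Groth.Agent.Neutral.Closure

/-!
Local boundedness of orders; power maps which are open.
-/

set_option autoImplicit false
set_option backward.isDefEq.respectTransparency false
set_option backward.isDefEq.respectTransparency.types false
set_option linter.style.haveILetI false

universe u

open CategoryTheory CategoryTheory.Limits MonoidalCategory CartesianMonoidalCategory MonObj GrpObj AlgebraicGeometry
open SGA3x

noncomputable section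

namespace Groth.Agent.TorSet

/-- Open maps of schemes lift generisations. -/
theorem exists_specializes_of_isOpenMap {X Y : Scheme.{u}} (f : X ⟶ Y) (hf : IsOpenMap f.base) {u : X} {z : Y}
    (h : z ⤳ f u) : ∃ v : X, v ⤳ u ∧ f v = z := by
  have hcl : u ∈ closure (f.base ⁻¹' {z}) := by
    rw [mem_closure_iff]
    intro O hO huO
    obtain ⟨v, hvO, hv⟩ := h.mem_open (hf O hO) ⟨u, huO, rfl⟩
    exact ⟨v, hvO, hv⟩
  obtain ⟨v, hv, hvu⟩ := DomLib.exists_specializes_of_mem_closure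
    (ProConsLib.isProConstructible_preimage f (DomLib.isProConstructible_singleton z)) hcl
  exact ⟨v, hvu, hv⟩

variable {S : Scheme.{u}} {G : Over S} [GrpObj G] [LocallyOfFiniteType G.hom]

omit [LocallyOfFiniteType G.hom] in
theorem mem_neutralSet_iff (x : G.left) : x ∈ neutralSet G ↔ ord G x = 1 := by
  rw [← Nat.dvd_one, ← pw_mem_iff, pw, pow_one]
  rfl

/-- Near every point the torsion points have bounded order. -/
theorem exists_local_bound [IsLocallyNoetherian S] (y : G.left) :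
    ∃ (W : G.left.Opens) (N : ℕ), y ∈ W ∧ 0 < N ∧ ∀ x ∈ W, x ∈ torSet G → ord G x ∣ N := by
  haveI : IsLocallyNoetherian G.left := LocallyOfFiniteType.isLocallyNoetherian G.hom
  obtain ⟨W, hW, hyW, -⟩ := exists_isAffineOpen_mem_and_subset (U := (⊤ : G.left.Opens)) (x := y) trivial
  haveI : CompactSpace ↥(W : Scheme) := isCompact_iff_compactSpace.mp hW.isCompact
  haveI : IsNoetherian (W : Scheme) := { }
  let W' : G.left.Opens := W ⊓ ⟨torSet G, isOpen_torSet⟩
  have hc : IsCompact (W' : Set G.left) := by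
    have h := (TopologicalSpace.NoetherianSpace.isCompact (W.ι.base ⁻¹' torSet G)).image W.ι.continuous
    rw [Set.image_preimage_eq_inter_range, Scheme.Opens.range_ι, Set.inter_comm] at h
    exact h
  obtain ⟨N, hN, hb⟩ := exists_ord_dvd hc fun x hx => hx.2
  exact ⟨W, N, hyW, hN, fun x hx hxT => hb x ⟨hx, hxT⟩⟩

omit [GrpObj G] [LocallyOfFiniteType G.hom] in
theorem isClosed_of_local {A : Set G.left}
    (h : ∀ y : G.left, ∃ (W : G.left.Opens) (C : Set G.left), y ∈ W ∧ IsClosed C ∧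
      A ∩ W ⊆ C ∧ C ∩ W ⊆ A) : IsClosed A := by
  refine isClosed_of_closure_subset fun y hy => ?_
  obtain ⟨W, C, hyW, hC, hAC, hCA⟩ := h y
  refine hCA ⟨closure_minimal hAC hC ?_, hyW⟩
  rw [Set.inter_comm]
  exact W.2.inter_closure ⟨hyW, hy⟩

omit [LocallyOfFiniteType G.hom] in
theorem isClosed_pw (h0 : IsClosed (neutralSet G)) (n : ℕ) : IsClosed (pw G n ⁻¹' neutralSet G) :=
  h0.preimage ((𝟙 G : G ⟶ G) ^ n).left.continuous

omit [GrpObj G] [LocallyOfFiniteType G.hom] in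
theorem isClosed_natCast_eq_zero (q : ℕ) : IsClosed {y : G.left | (q : S.residueField (G.hom y)) = 0} := by
  have h : {y : G.left | (q : S.residueField (G.hom y)) = 0} = (G.hom.base ⁻¹' (S.basicOpen (q : Γ(S, ⊤)) : Set S))ᶜ := by
    ext y
    rw [Set.mem_compl_iff, Set.mem_preimage, SetLike.mem_coe,
      Scheme.mem_basicOpen _ _ _ (show G.hom y ∈ (⊤ : S.Opens) from trivial), ← IsLocalRing.residue_ne_zero_iff_isUnit,
      not_not, map_natCast, map_natCast]
    rfl
  rw [h]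
  exact (S.basicOpen _).2.preimage G.hom.continuous |>.isClosed_compl

/-- Surjectivity of an open power map on neutral components. -/
theorem exists_pw_eq [IsCommMonObj G] {l : ℕ} (hl : IsOpenMap ((𝟙 G : G ⟶ G) ^ l).left.base) {w : G.left}
    (hw : w ∈ neutralSet G) : ∃ u ∈ neutralSet G, pw G l u = w := by
  obtain ⟨O, hO, hOeq⟩ := Neutral.exists_open_inter_eq (G := G) (G.hom w)
  have he : η[G].left (G.hom w) ∈ pw G l '' O := by
    refine ⟨η[G].left (G.hom w), (hOeq.ge ⟨Neutral.unit_mem _, Neutral.hom_unit G _⟩).1, ?_⟩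
    show (η[G] ≫ (𝟙 G : G ⟶ G) ^ l).left (G.hom w) = _
    rw [comp_pow_id, show η[G] = 1 by simp [Hom.one_def], one_pow]
  obtain ⟨q, ⟨hq1, hq2⟩, hq⟩ := Neutral.mem_image_of_isOpen w hw (pw G l '' O) (hl O hO) he
  obtain ⟨u1, hu1, hu1'⟩ := hq1
  obtain ⟨u2, hu2, hu2'⟩ := hq2
  have hh : G.hom ((fst G G).left q) = G.hom w := by rw [← Neutral.hom_mul, hq]
  have hh2 : G.hom ((snd G G).left q) = G.hom ((fst G G).left q) :=
    (congrArg (fun m => m q) (Over.w (snd G G))).trans (congrArg (fun m => m q) (Over.w (fst G G))).symm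
  have hmem1 : u1 ∈ neutralSet G := (hOeq.le ⟨hu1, show G.hom u1 = _ by rw [← hom_pw G l u1, hu1', hh]⟩).1
  have hmem2 : u2 ∈ neutralSet G := (hOeq.le ⟨hu2, show G.hom u2 = _ by rw [← hom_pw G l u2, hu2', hh2, hh]⟩).1
  let Q : Over S := Over.mk ((G ⊗ G).left.fromSpecResidueField q ≫ (G ⊗ G).hom)
  let r : Q ⟶ G ⊗ G := Over.homMk ((G ⊗ G).left.fromSpecResidueField q) rfl
  let p : Q.left := IsLocalRing.closedPoint _
  have hrp : r.left p = q := Scheme.fromSpecResidueField_apply q p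
  -- a common field-valued point over the two lifts
  obtain ⟨z1, hz1, hz1'⟩ := Scheme.Pullback.exists_preimage_pullback
    (f := (r ≫ fst G G).left) (g := ((𝟙 G : G ⟶ G) ^ l).left) p u1
    (show (fst G G).left (r.left p) = _ by rw [hrp]; exact hu1'.symm)
  let P1 : Over S := Over.mk (pullback.fst (r ≫ fst G G).left ((𝟙 G : G ⟶ G) ^ l).left ≫ Q.hom)
  let a1 : P1 ⟶ Q := Over.homMk (pullback.fst _ _) rfl
  let b1 : P1 ⟶ G := Over.homMk (pullback.snd (r ≫ fst G G).left ((𝟙 G : G ⟶ G) ^ l).left) (by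
    show pullback.snd _ _ ≫ G.hom = pullback.fst _ _ ≫ Q.hom
    rw [← Over.w (r ≫ fst G G), reassoc_of% pullback.condition (f := (r ≫ fst G G).left) (g := ((𝟙 G : G ⟶ G) ^ l).left), Over.w])
  have h1 : a1 ≫ r ≫ fst G G = b1 ^ l := by
    rw [← comp_pow_id]
    ext1
    exact pullback.condition
  obtain ⟨z2, hz2, hz2'⟩ := Scheme.Pullback.exists_preimage_pullback
    (f := (a1 ≫ r ≫ snd G G).left) (g := ((𝟙 G : G ⟶ G) ^ l).left) z1 u2
    (show (snd G G).left (r.left (a1.left z1)) = _ by rw [show a1.left z1 = p from hz1, hrp]; exact hu2'.symm)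
  let P2 : Over S := Over.mk (pullback.fst (a1 ≫ r ≫ snd G G).left ((𝟙 G : G ⟶ G) ^ l).left ≫ P1.hom)
  let a2 : P2 ⟶ P1 := Over.homMk (pullback.fst _ _) rfl
  let b2 : P2 ⟶ G := Over.homMk (pullback.snd (a1 ≫ r ≫ snd G G).left ((𝟙 G : G ⟶ G) ^ l).left) (by
    show pullback.snd _ _ ≫ G.hom = pullback.fst _ _ ≫ P1.hom
    rw [← Over.w (a1 ≫ r ≫ snd G G), reassoc_of% pullback.condition (f := (a1 ≫ r ≫ snd G G).left) (g := ((𝟙 G : G ⟶ G) ^ l).left), Over.w])
  have h2 : a2 ≫ a1 ≫ r ≫ snd G G = b2 ^ l := by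
    rw [← comp_pow_id]
    ext1
    exact pullback.condition
  let c1 : P2 ⟶ G := a2 ≫ b1
  -- restrict to the point
  let T : Over S := Over.mk (P2.left.fromSpecResidueField z2 ≫ P2.hom)
  let t : T ⟶ P2 := Over.homMk (P2.left.fromSpecResidueField z2) rfl
  have htp : ∀ t0 : T.left, t.left t0 = z2 := fun t0 => Scheme.fromSpecResidueField_apply z2 t0
  let t0 : T.left := IsLocalRing.closedPoint _
  have hmul := Neutral.range_mul_subset (t ≫ c1) (t ≫ b2)
    (by
      rintro _ ⟨t1, rfl⟩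
      show b1.left (a2.left (t.left t1)) ∈ neutralSet G
      rw [htp, show a2.left z2 = z1 from hz2, show b1.left z1 = u1 from hz1']
      exact hmem1)
    (by
      rintro _ ⟨t1, rfl⟩
      show b2.left (t.left t1) ∈ neutralSet G
      rw [htp, show b2.left z2 = u2 from hz2']
      exact hmem2)
  refine ⟨((t ≫ c1) * (t ≫ b2)).left t0, hmul ⟨t0, rfl⟩, ?_⟩
  show (((t ≫ c1) * (t ≫ b2)) ≫ (𝟙 G : G ⟶ G) ^ l).left t0 = w
  have : ((t ≫ c1) * (t ≫ b2)) ≫ (𝟙 G : G ⟶ G) ^ l = t ≫ a2 ≫ a1 ≫ r ≫ μ[G] := by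
    rw [comp_pow_id, mul_pow, ← comp_pow_id, ← comp_pow_id (G := G) (t ≫ b2)]
    simp only [c1, Category.assoc, comp_pow_id, ← h1, ← h2]
    rw [← MonObj.comp_mul, ← MonObj.comp_mul, ← MonObj.comp_mul, ← MonObj.comp_mul, Hom.mul_def, lift_fst_snd,
      Category.id_comp]
  rw [this]
  show μ[G].left (r.left (a1.left (a2.left (t.left t0)))) = w
  rw [htp, show a2.left z2 = z1 from hz2, show a1.left z1 = p from hz1, hrp, hq]

/-- Openness of the `p`-primary part when all power maps prime to `p` are open. -/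
theorem isOpen_primary [IsLocallyNoetherian S] [IsCommMonObj G] (p : ℕ) (hp : p = 1 ∨ p.Prime)
    (hopen : ∀ n : ℕ, 0 < n → Nat.Coprime n p → IsOpenMap ((𝟙 G : G ⟶ G) ^ n).left.base) :
    IsOpen {x : G.left | ∃ h : ℕ, ord G x ∣ p ^ h} := by
  have hp0 : 0 < p := by rcases hp with rfl | hp; exacts [Nat.one_pos, hp.pos]
  have hA : {x : G.left | ∃ h : ℕ, ord G x ∣ p ^ h} = ⋃ h : ℕ, pw G (p ^ h) ⁻¹' neutralSet G := by
    ext x
    simp only [Set.mem_iUnion, Set.mem_preimage, pw_mem_iff]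
    rfl
  refine isOpen_of_isIndConstructible (hA ▸ isIndConstructible_iUnion fun h => isIndConstructible_pw _) ?_
  rintro x y hyx ⟨h, hx⟩
  let z := pw G (p ^ h) y
  let w := pw G (p ^ h) x
  have hw : w ∈ neutralSet G := (pw_mem_iff G x _).2 hx
  have hzw : z ⤳ w := hyx.map ((𝟙 G : G ⟶ G) ^ (p ^ h)).left.continuous
  have hz0 : ord G z ≠ 0 := ord_ne_zero_of_specializes hzw hw
  by_contra hcon
  obtain ⟨l, hl, hlz, hlp⟩ : ∃ l : ℕ, l.Prime ∧ l ∣ ord G z ∧ Nat.Coprime l p := by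
    by_contra hno
    push Not at hno
    refine hcon ⟨h + (ord G z).primeFactorsList.length, ?_⟩
    rw [pow_add, ← ord_pw_dvd_iff]
    by_cases h1 : ord G z = 1
    · rw [show ord G (pw G (p ^ h) y) = 1 from h1]
      exact one_dvd _
    have hpp : p.Prime := by
      obtain ⟨l, hl, hlz⟩ := Nat.exists_prime_and_dvd h1
      rcases hp with rfl | hp
      · exact absurd (Nat.coprime_one_right l) (hno l hl hlz)
      · exact hp
    have hall : ∀ {d : ℕ}, d.Prime → d ∣ ord G z → d = p := fun {d} hd hdz => by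
      have h := hno d hd hdz
      exact not_not.1 fun hne => h ((Nat.coprime_primes hd hpp).2 hne)
    exact dvd_of_eq (Nat.eq_prime_pow_of_unique_prime_dvd hz0 hall)
  obtain ⟨o, ho⟩ := hlz
  let z1 := pw G o z
  have hz1 : ∀ m, ord G z1 ∣ m ↔ l ∣ m := fun m => by
    rw [ord_pw_dvd_iff, ho, mul_comm l o]
    exact Nat.mul_dvd_mul_iff_left (Nat.pos_of_ne_zero fun h0 => hz0 (by rw [ho, h0, mul_zero]))
  let w1 := pw G o w
  have hw1 : w1 ∈ neutralSet G := (pw_mem_iff G w o).2 ((((mem_neutralSet_iff w).1 hw).dvd).trans (one_dvd o))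
  have hzw1 : z1 ⤳ w1 := hzw.map ((𝟙 G : G ⟶ G) ^ o).left.continuous
  have hchain : ∀ k : ℕ, ∃ v u : G.left, v ⤳ u ∧ u ∈ neutralSet G ∧ G.hom u = G.hom w1 ∧
      pw G (l ^ k) v = z1 := by
    intro k
    induction k with
    | zero => exact ⟨z1, w1, hzw1, hw1, rfl, by rw [pow_zero, pw, pow_one]; rfl⟩
    | succ k ih =>
      obtain ⟨v, u, hvu, hu, hus, hv⟩ := ih
      obtain ⟨u', hu', hu''⟩ := exists_pw_eq (hopen l hl.pos hlp) hu
      obtain ⟨v', hv'u', hv'⟩ := exists_specializes_of_isOpenMap ((𝟙 G : G ⟶ G) ^ l).left (hopen l hl.pos hlp)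
        (u := u') (z := v) (show v ⤳ pw G l u' from hu''.symm ▸ hvu)
      refine ⟨v', u', hv'u', hu', ?_, ?_⟩
      · rw [← hom_pw G l u', hu'', hus]
      · rw [pow_succ', ← pw_pw, show pw G l v' = v from hv', hv]
  haveI : IsLocallyNoetherian G.left := LocallyOfFiniteType.isLocallyNoetherian G.hom
  choose W N hyW hN hb using fun v : G.left => exists_local_bound (G := G) v
  obtain ⟨σ, hσ⟩ := (isCompact_neutralSet_fibre (G := G) (G.hom w1)).elim_finite_subcover
    (fun v => (W v : Set G.left)) (fun v => (W v).2) fun v _ => Set.mem_iUnion.2 ⟨v, hyW v⟩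
  let M := ∏ v ∈ σ, N v
  have hM : 0 < M := Finset.prod_pos fun v _ => hN v
  obtain ⟨v, u, hvu, hu, hus, hv⟩ := hchain M
  obtain ⟨i, hi, huW⟩ := Set.mem_iUnion₂.1 (hσ ⟨hu, hus⟩)
  have hdvd : ord G v ∣ M :=
    (hb i v (hvu.mem_open (W i).2 huW) (ord_ne_zero_of_specializes hvu hu)).trans (Finset.dvd_prod_of_mem _ hi)
  obtain ⟨e, heM, he⟩ := (Nat.dvd_prime_pow hl).1
    (show ord G v ∣ l ^ (M + 1) by rw [pow_succ, ← ord_pw_dvd_iff, hv, hz1])
  have he' : e = M + 1 := by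
    by_contra hne
    refine hl.not_dvd_one ((hz1 1).1 ?_)
    rw [← hv, ord_pw_dvd_iff, _root_.mul_one, he]
    exact pow_dvd_pow l (by omega)
  have h2 := Nat.le_of_dvd hM hdvd
  rw [he, he'] at h2
  have h3 := Nat.lt_pow_self (n := M + 1) hl.one_lt
  omega

end Groth.Agent.TorSet

end
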